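import Groth.Agent.InsepLength.Basic
import Groth.Agent.FormalIrred.Domain

/-!
Multiplicities of the components of `K ⊗ L` are powers of the characteristic exponent.
-/

set_option autoImplicit false
set_option linter.style.haveILetI false
set_option backward.isDefEq.respectTransparency.types false

universe u

open TensorProduct IsLocalRing

namespace Groth.Agent.InsepLength

theorem length_congr {A B : Type u} [CommRing A] [CommRing B] (e : A ≃+* B) :
    Module.length A A = Module.length B B := by
  apply WithBot.coe_injective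
  rw [Module.coe_length, Module.coe_length]
  exact (Order.krullDim_eq_of_orderIso e.idealComapOrderIso).symm

theorem isDomain_tensor_adjoin (k K L : Type u) [Field k] [Field K] [Field L] [Algebra k K] [Algebra k L]
    {ι : Type u} {x : ι → L} (hx : AlgebraicIndependent k x) :
    IsDomain (IntermediateField.adjoin k (Set.range x) ⊗[k] K) := by
  let R := MvPolynomial ι k
  haveI : IsDomain (K ⊗[k] R) :=
    (MvPolynomial.algebraTensorAlgEquiv (σ := ι) k K).toRingEquiv.toMulEquiv.isDomain
  haveI : IsDomain (K ⊗[k] FractionRing R) :=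
    FormalIrred.isDomain_tensor_of_isFractionRing (F := R) k (FractionRing R) K
  exact ((Algebra.TensorProduct.comm k (IntermediateField.adjoin k (Set.range x)) K).trans
    (Algebra.TensorProduct.congr AlgEquiv.refl hx.aevalEquivField.symm)).toRingEquiv.toMulEquiv.isDomain

theorem isReduced_tensor_separable (k K F Ls : Type u) [Field k] [Field K] [Field F] [Field Ls] [Algebra k K]
    [Algebra k F] [Algebra k Ls] [Algebra F Ls] [IsScalarTower k F Ls] [IsDomain (F ⊗[k] K)]
    [Algebra.IsSeparable F Ls] [FiniteDimensional F Ls] : _root_.IsReduced (Ls ⊗[k] K) := by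
  haveI : Algebra.FormallyUnramified F Ls := Algebra.FormallyUnramified.of_isSeparable F Ls
  let Q := FractionRing (F ⊗[k] K)
  haveI : _root_.IsReduced (Q ⊗[F] Ls) := Algebra.FormallyUnramified.isReduced_of_field Q _
  haveI : _root_.IsReduced (Ls ⊗[F] Q) :=
    isReduced_of_injective (Algebra.TensorProduct.comm F Ls Q).toAlgHom
      (Algebra.TensorProduct.comm F Ls Q).injective
  haveI : _root_.IsReduced (Ls ⊗[F] (F ⊗[k] K)) :=
    isReduced_of_injective (Algebra.TensorProduct.map (AlgHom.id F Ls) (IsScalarTower.toAlgHom F (F ⊗[k] K) Q))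
      (Module.Flat.lTensor_preserves_injective_linearMap _ (IsFractionRing.injective (F ⊗[k] K) Q))
  exact isReduced_of_injective (Algebra.TensorProduct.cancelBaseChange k F F Ls K).symm.toRingEquiv
    (Algebra.TensorProduct.cancelBaseChange k F F Ls K).symm.injective

theorem length_localization_pow (p : ℕ) (k P C : Type u) [Field k] [Field P] [CommRing C] [Algebra k P]
    [Algebra k C] [_root_.IsReduced C] [ExpChar k p] (hp : p.Prime ∨ p = 1) [IsPurelyInseparable k P]
    [FiniteDimensional k P] (q : Ideal (P ⊗[k] C)) [q.IsPrime] (hq : q ∈ minimalPrimes (P ⊗[k] C)) :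
    ∃ n : ℕ, Module.length (Localization.AtPrime q) (Localization.AtPrime q) = (p ^ n : ℕ) := by
  let T := P ⊗[k] C
  let inc : C →+* T := (Algebra.TensorProduct.includeRight : C →ₐ[k] T).toRingHom
  have hh : IsHomeomorph (PrimeSpectrum.comap inc) := by
    have h := (PrimeSpectrum.isHomeomorph_comap_of_isPurelyInseparable k P C).comp
      (PrimeSpectrum.homeomorphOfRingEquiv (Algebra.TensorProduct.comm k P C).toRingEquiv).isHomeomorph
    convert h using 2
    refine funext fun Q => PrimeSpectrum.ext (Ideal.ext fun c => ?_)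
    show inc c ∈ Q.asIdeal ↔ _
    rfl
  let pp := q.comap inc
  have hpp : pp ∈ minimalPrimes C := by
    refine ⟨⟨inferInstance, bot_le⟩, fun J ⟨hJ, _⟩ hJle => ?_⟩
    obtain ⟨Q, hQ⟩ := hh.surjective ⟨J, hJ⟩
    have h1 : PrimeSpectrum.comap inc Q ⤳ PrimeSpectrum.comap inc ⟨q, ‹_›⟩ := by
      rw [hQ]; exact (PrimeSpectrum.le_iff_specializes (⟨J, hJ⟩ : PrimeSpectrum C) _).1 hJle
    have h2 : Q.asIdeal ≤ q := (PrimeSpectrum.le_iff_specializes Q ⟨q, ‹_›⟩).2
      ((hh.homeomorph _).isInducing.specializes_iff.1 h1)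
    have h3 : q ≤ Q.asIdeal := hq.2 ⟨Q.isPrime, bot_le⟩ h2
    exact (Ideal.comap_mono h3).trans (congrArg PrimeSpectrum.asIdeal hQ).le
  let Mf := pp.ResidueField
  haveI : IsLocalization.AtPrime Mf pp := by
    have hf : IsField (Localization.AtPrime pp) := by
      rw [← PrimeSpectrum.subsingleton_iff_isField_of_isReduced]
      exact IsLocalization.subsingleton_primeSpectrum_of_mem_minimalPrimes pp hpp _
    have hbij : Function.Bijective (algebraMap (Localization.AtPrime pp) Mf) :=
      ⟨(letI := hf.toField; (algebraMap (Localization.AtPrime pp) Mf).injective), Ideal.Quotient.mk_surjective⟩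
    exact IsLocalization.isLocalization_of_algEquiv pp.primeCompl
      (AlgEquiv.ofBijective (IsScalarTower.toAlgHom C (Localization.AtPrime pp) Mf) hbij)
  letI : Algebra C T := Algebra.TensorProduct.rightAlgebra
  letI : Algebra T (P ⊗[k] Mf) :=
    (Algebra.TensorProduct.map (AlgHom.id k P) (IsScalarTower.toAlgHom k C Mf)).toRingHom.toAlgebra
  haveI : IsScalarTower P T (P ⊗[k] Mf) := IsScalarTower.of_algebraMap_eq fun c => by
    show c ⊗ₜ[k] (1 : Mf) = c ⊗ₜ[k] (algebraMap C Mf 1)
    rw [map_one]
  haveI hloc : IsLocalization (pp.primeCompl.map (Algebra.TensorProduct.includeRight : C →ₐ[k] T)) (P ⊗[k] Mf) :=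
    IsLocalization.tensorProduct_tensorProduct_right (R := k) (S := P) pp.primeCompl Mf (RingHom.ext fun a => rfl)
  haveI := isLocalRing k P Mf
  obtain ⟨n, hn⟩ := length_eq_pow_finite k P Mf p hp
  refine ⟨n, ?_⟩
  rw [← hn]
  let m := maximalIdeal (P ⊗[k] Mf)
  have hm : m.comap (algebraMap T (P ⊗[k] Mf)) = q := by
    have : (⟨m.comap (algebraMap T (P ⊗[k] Mf)), inferInstance⟩ : PrimeSpectrum T) = ⟨q, ‹_›⟩ := by
      refine hh.injective (PrimeSpectrum.ext ?_)
      show (m.comap (algebraMap T (P ⊗[k] Mf))).comap inc = pp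
      rw [Ideal.comap_comap]
      have e : (algebraMap T (P ⊗[k] Mf)).comp inc =
          (Algebra.TensorProduct.includeRight : Mf →ₐ[k] P ⊗[k] Mf).toRingHom.comp (algebraMap C Mf) :=
        RingHom.ext fun c => rfl
      rw [e, ← Ideal.comap_comap]
      have : m.comap (Algebra.TensorProduct.includeRight : Mf →ₐ[k] P ⊗[k] Mf).toRingHom = maximalIdeal Mf := by
        haveI : (m.comap (Algebra.TensorProduct.includeRight : Mf →ₐ[k] P ⊗[k] Mf).toRingHom).IsPrime :=
          inferInstance
        rw [(Ideal.eq_bot_or_top _).resolve_right (Ideal.IsPrime.ne_top this),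
          (Ideal.eq_bot_or_top (maximalIdeal Mf)).resolve_right (IsLocalRing.maximalIdeal.isMaximal Mf).ne_top]
      rw [this]
      rw [(Ideal.eq_bot_or_top (maximalIdeal Mf)).resolve_right (IsLocalRing.maximalIdeal.isMaximal Mf).ne_top]
      exact Ideal.ker_algebraMap_residueField pp
    exact congrArg PrimeSpectrum.asIdeal this
  haveI : (m.comap (algebraMap T (P ⊗[k] Mf))).IsPrime := inferInstance
  haveI : IsLocalization.AtPrime (P ⊗[k] Mf) q := by
    haveI : IsLocalization.AtPrime (P ⊗[k] Mf) m := by
      refine IsLocalization.self fun a ha => ?_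
      exact IsLocalRing.notMem_maximalIdeal.1 ha
    have := IsLocalization.isLocalization_isLocalization_atPrime_isLocalization
      (pp.primeCompl.map (Algebra.TensorProduct.includeRight : C →ₐ[k] T)) (P ⊗[k] Mf) m
    have key : ∀ (I : Ideal T) [I.IsPrime], I = q → IsLocalization.AtPrime (P ⊗[k] Mf) I →
        IsLocalization.AtPrime (P ⊗[k] Mf) q := fun I _ h h' => by subst h; exact h'
    exact key _ hm this
  exact length_congr (IsLocalization.algEquiv q.primeCompl (Localization.AtPrime q) (P ⊗[k] Mf)).toRingEquiv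

theorem length_localization_tensor_aux (k K F Ls L : Type u) [Field k] [Field K] [Field F] [Field Ls] [Field L]
    [Algebra k K] [Algebra k F] [Algebra k Ls] [Algebra k L] [Algebra F Ls] [Algebra Ls L] [IsScalarTower k F Ls]
    [IsScalarTower k Ls L] [IsDomain (F ⊗[k] K)] [Algebra.IsSeparable F Ls] [FiniteDimensional F Ls]
    [IsPurelyInseparable Ls L] [FiniteDimensional Ls L]
    (p : ℕ) [ExpChar k p] (q : Ideal (K ⊗[k] L)) [q.IsPrime]
    (hq : q ∈ minimalPrimes (K ⊗[k] L)) :
    ∃ n : ℕ, Module.length (Localization.AtPrime q) (Localization.AtPrime q) = (p ^ n : ℕ) := by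
  haveI : _root_.IsReduced (Ls ⊗[k] K) := isReduced_tensor_separable k K F Ls
  haveI : ExpChar Ls p := expChar_of_injective_algebraMap (algebraMap k Ls).injective p
  have hp : p.Prime ∨ p = 1 := by
    rcases expChar_is_prime_or_one k p with h | h <;> [exact Or.inl h; exact Or.inr h]
  let e : L ⊗[Ls] (Ls ⊗[k] K) ≃+* K ⊗[k] L :=
    (Algebra.TensorProduct.cancelBaseChange k Ls Ls L K).toRingEquiv.trans
      (Algebra.TensorProduct.comm k L K).toRingEquiv
  haveI : (q.comap e).IsPrime := inferInstance
  have hq' : q.comap e ∈ minimalPrimes (L ⊗[Ls] (Ls ⊗[k] K)) := by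
    refine ⟨⟨inferInstance, bot_le⟩, fun J ⟨hJ, _⟩ hJle => ?_⟩
    haveI := hJ
    have h1 : J.comap e.symm ≤ q := fun a ha => by
      have h3 : e (e.symm a) ∈ q := hJle (show e.symm a ∈ J from ha)
      rwa [e.apply_symm_apply] at h3
    have h2 := hq.2 ⟨(inferInstance : (J.comap e.symm).IsPrime), bot_le⟩ h1
    intro a ha
    simpa using h2 (show e a ∈ q from ha)
  obtain ⟨n, hn⟩ := length_localization_pow p Ls L (Ls ⊗[k] K) hp (q.comap e) hq'
  refine ⟨n, hn ▸ length_congr ?_⟩
  exact (IsLocalization.ringEquivOfRingEquiv (M := (q.comap e).primeCompl) (T := q.primeCompl)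
    (Localization.AtPrime (q.comap e)) (Localization.AtPrime q) e (by
      ext a
      simp only [Submonoid.mem_map]
      constructor
      · rintro ⟨b, hb, rfl⟩; exact hb
      · intro ha; exact ⟨e.symm a, fun h => ha (by simpa using h), e.apply_symm_apply a⟩)).symm

theorem length_localization_tensor (k K L : Type u) [Field k] [Field K] [Field L] [Algebra k K] [Algebra k L]
    (hL : (⊤ : IntermediateField k L).FG) (p : ℕ) [ExpChar k p] (q : Ideal (K ⊗[k] L)) [q.IsPrime]
    (hq : q ∈ minimalPrimes (K ⊗[k] L)) :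
    ∃ n : ℕ, Module.length (Localization.AtPrime q) (Localization.AtPrime q) = (p ^ n : ℕ) := by
  haveI : Algebra.EssFiniteType k L := IntermediateField.fg_top_iff.mp hL
  obtain ⟨s, hs⟩ := exists_isTranscendenceBasis k L
  let F := IntermediateField.adjoin k (Set.range ((↑) : s → L))
  haveI : IsDomain (F ⊗[k] K) := isDomain_tensor_adjoin k K L hs.1
  haveI : Algebra.IsAlgebraic F L := hs.isAlgebraic_field
  haveI : Algebra.EssFiniteType F L := Algebra.EssFiniteType.of_comp k F L
  haveI : FiniteDimensional F L := Algebra.finite_of_essFiniteType_of_isAlgebraic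
  haveI : FiniteDimensional (separableClosure F L) L := Module.Finite.of_restrictScalars_finite F _ L
  haveI : IsScalarTower k (separableClosure F L) L := IsScalarTower.of_algebraMap_eq fun _ => rfl
  exact length_localization_tensor_aux k K F (separableClosure F L) L p q hq

end Groth.Agent.InsepLength
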